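import Groth.Agent.GorLib.Rees
import Groth.Agent.ProjDim.Regular
import Groth.Agent.SegreOne.Socle
import Mathlib.Algebra.Module.Injective
import Mathlib.RingTheory.Localization.Ideal
import Mathlib.RingTheory.Localization.LocalizationLocalization
import Mathlib.RingTheory.Localization.Away.Basic
import Mathlib.RingTheory.RegularLocalRing.Polynomial

/-!
# Gorenstein rings: Frobenius algebras, regular localisations, quotients at a prime
-/

namespace Groth.Agent.SemiGor

open CategoryTheory

universe u

/-- A finite local algebra over a field with a nondegenerate functional is Gorenstein. -/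
theorem isGorensteinLocalRing_of_pairing {k : Type u} {Q : Type u} [Field k] [CommRing Q] [Algebra k Q]
    [IsLocalRing Q] [IsNoetherianRing Q] [FiniteDimensional k Q] (φ : Q →ₗ[k] k)
    (h : ∀ q, (∀ x, φ (q * x) = 0) → q = 0) : LocCoh.IsGorensteinLocalRing Q := by
  let pair : Q →ₗ[k] Module.Dual k Q := (LinearMap.mul k Q).compr₂ φ
  have hinj : Function.Injective pair := by
    rw [← LinearMap.ker_eq_bot, LinearMap.ker_eq_bot']
    exact fun q hq => h q fun x => LinearMap.congr_fun hq x
  have hsurj : Function.Surjective pair :=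
    (LinearMap.injective_iff_surjective_of_finrank_eq_finrank (Subspace.dual_finrank_eq).symm).1 hinj
  have hB : Module.Baer Q Q := by
    intro I f
    obtain ⟨ψ, hψ⟩ := LinearMap.exists_extend (φ ∘ₗ f.restrictScalars k : I.restrictScalars k →ₗ[k] k)
    obtain ⟨q, hq⟩ := hsurj ψ
    refine ⟨LinearMap.toSpanSingleton Q Q q, fun x hx => ?_⟩
    rw [LinearMap.toSpanSingleton_apply, smul_eq_mul]
    refine (sub_eq_zero.1 (h _ fun y => ?_))
    rw [sub_mul, map_sub]
    have h1 : φ (q * (x * y)) = φ (f ⟨x * y, I.mul_mem_right y hx⟩) :=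
      (LinearMap.congr_fun hq (x * y)).trans (LinearMap.congr_fun hψ ⟨x * y, I.mul_mem_right y hx⟩)
    have h2 : f ⟨x * y, I.mul_mem_right y hx⟩ = f ⟨x, hx⟩ * y := by
      rw [mul_comm (f ⟨x, hx⟩) y, ← smul_eq_mul y, ← map_smul]
      exact congrArg f (Subtype.ext (mul_comm _ _))
    rw [← h2, ← h1, mul_comm x q, mul_assoc, sub_self]
  have : Module.Injective Q Q := hB.injective
  have := Module.injective_object_of_injective_module (R := Q) (M := Q)
  exact { exists_hasInjectiveDimensionLT := ⟨1, injective_iff_hasInjectiveDimensionLT_one.1 this⟩ }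

theorem isGorensteinLocalRing_of_isRegularLocalRing (A : Type u) [CommRing A] [IsRegularLocalRing A] :
    LocCoh.IsGorensteinLocalRing A := by
  have hd : ringKrullDim A = ((IsLocalRing.maximalIdeal A).spanFinrank : WithBot ℕ∞) :=
    ((isRegularLocalRing_iff A).1 ‹_›).symm
  refine GorLib.isGorensteinLocalRing_iff.2 ⟨(IsLocalRing.maximalIdeal A).spanFinrank + 1, fun i hi => ?_⟩
  have := ProjDim.gldim_le_of_regularLocal A _ hd (ModuleCat.of A (IsLocalRing.ResidueField A))
  exact HasProjectiveDimensionLT.subsingleton _ _ i hi _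

/-- If `S ⊆ B` becomes an equality after inverting `t` and `B` is regular, then `S` is Gorenstein off `t`. -/
theorem isGorenstein_localization_of_saturate {S B : Type u} [CommRing S] [CommRing B] [IsRegularRing B]
    (ι : S →+* B) (hinj : Function.Injective ι) (t : S) (hconv : ∀ b : B, ∃ n : ℕ, ι t ^ n * b ∈ ι.range)
    (p : Ideal S) [p.IsPrime] (htp : t ∉ p) : LocCoh.IsGorensteinLocalRing (Localization.AtPrime p) := by
  let _ : Algebra S B := ι.toAlgebra
  let L := Localization.Away (ι t)
  have ht : ι t = algebraMap S B t := rfl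
  have hcomp : ∀ s : S, algebraMap S L s = algebraMap B L (ι s) := fun s => rfl
  have hL : IsLocalization.Away t L := by
    refine (isLocalization_iff _ _).2 ⟨?_, ?_, fun {a b} => ?_⟩
    · rintro ⟨_, n, rfl⟩
      change IsUnit (algebraMap S L (t ^ n))
      rw [hcomp, map_pow, map_pow]
      exact (IsLocalization.Away.algebraMap_isUnit (ι t)).pow n
    · intro z
      obtain ⟨⟨b, ⟨_, m, rfl⟩⟩, hz⟩ := IsLocalization.surj (Submonoid.powers (ι t)) z
      obtain ⟨n, s, hs⟩ := hconv b
      refine ⟨⟨s, ⟨_, m + n, rfl⟩⟩, ?_⟩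
      dsimp at hz ⊢
      rw [hcomp, hcomp, hs, map_mul, ← hz, ← map_pow, pow_add, map_mul, map_mul]
      simp only [map_pow]; ring
    · intro hab
      rw [hcomp, hcomp] at hab
      obtain ⟨⟨_, n, rfl⟩, hn⟩ := IsLocalization.exists_of_eq (M := Submonoid.powers (ι t)) hab
      refine ⟨⟨_, n, rfl⟩, hinj ?_⟩
      dsimp at hn ⊢
      rw [map_mul, map_mul, map_pow]
      exact hn
  have hdisj : Disjoint (Submonoid.powers t : Set S) (p : Set S) := by
    rw [Set.disjoint_left]
    rintro _ ⟨n, rfl⟩ hn
    exact htp (‹p.IsPrime›.mem_of_pow_mem n hn)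
  let p' := p.map (algebraMap S L)
  have hp' : p'.IsPrime := IsLocalization.isPrime_of_isPrime_disjoint (Submonoid.powers t) L p ‹_› hdisj
  have hcomap : p'.comap (algebraMap S L) = p :=
    IsLocalization.comap_map_of_isPrime_disjoint (Submonoid.powers t) L ‹_› hdisj
  let C := Localization.AtPrime p'
  have hS : IsLocalization.AtPrime C (p'.comap (algebraMap S L)) :=
    IsLocalization.isLocalization_isLocalization_atPrime_isLocalization (Submonoid.powers t) C p'
  have hB : IsLocalization.AtPrime C (p'.comap (algebraMap B L)) :=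
    IsLocalization.isLocalization_isLocalization_atPrime_isLocalization (Submonoid.powers (ι t)) C p'
  have : IsRegularLocalRing C :=
    IsRegularLocalRing.of_ringEquiv (R := Localization.AtPrime (p'.comap (algebraMap B L)))
      (IsLocalization.algEquiv (p'.comap (algebraMap B L)).primeCompl _ C).toRingEquiv
  have := isGorensteinLocalRing_of_isRegularLocalRing C
  have hp : (p'.comap (algebraMap S L)).primeCompl = p.primeCompl := by
    ext x
    simp [Ideal.mem_primeCompl_iff, hcomap]
  have hS' : IsLocalization p.primeCompl C := hp ▸ hS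
  exact SegreOne.isGorensteinLocalRing_of_ringEquiv
    (IsLocalization.algEquiv p.primeCompl C (Localization.AtPrime p)).toRingEquiv

/-- Localisation commutes with the quotient by an element of the prime. -/
theorem nonempty_quotient_localization_equiv {R : Type u} [CommRing R] (t : R) (q : Ideal R) [q.IsPrime]
    (ht : t ∈ q) :
    ∃ (qb : Ideal (R ⧸ Ideal.span {t})) (_ : qb.IsPrime), qb.comap (Ideal.Quotient.mk _) = q ∧
      Nonempty ((Localization.AtPrime q ⧸ Ideal.span {algebraMap R (Localization.AtPrime q) t}) ≃+*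
        Localization.AtPrime qb) := by
  have hle : RingHom.ker (Ideal.Quotient.mk (Ideal.span {t})) ≤ q := by
    rwa [Ideal.mk_ker, Ideal.span_singleton_le_iff_mem]
  let qb := q.map (Ideal.Quotient.mk (Ideal.span {t}))
  have hqb : qb.IsPrime := Ideal.map_isPrime_of_surjective Ideal.Quotient.mk_surjective hle
  have hcomap : qb.comap (Ideal.Quotient.mk _) = q := by
    rw [Ideal.comap_map_of_surjective _ Ideal.Quotient.mk_surjective, ← RingHom.ker_eq_comap_bot,
      sup_eq_left.2 hle]
  refine ⟨qb, hqb, hcomap, ?_⟩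
  have hM : Algebra.algebraMapSubmonoid (R ⧸ Ideal.span {t}) q.primeCompl = qb.primeCompl := by
    ext x
    obtain ⟨x, rfl⟩ := Ideal.Quotient.mk_surjective x
    constructor
    · rintro ⟨y, hy, hyx⟩ hx
      refine hy ?_
      rw [← hcomap]
      change Ideal.Quotient.mk _ y ∈ qb
      exact hyx ▸ hx
    · exact fun hx => ⟨x, fun h => hx (Ideal.mem_map_of_mem _ h), rfl⟩
  let T := Localization.AtPrime q ⧸ (Ideal.span {t}).map (algebraMap R (Localization.AtPrime q))
  have hT : IsLocalization qb.primeCompl T :=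
    hM ▸ (inferInstance : IsLocalization (Algebra.algebraMapSubmonoid (R ⧸ Ideal.span {t}) q.primeCompl) T)
  refine ⟨(Ideal.quotEquivOfEq ?_).trans
    (IsLocalization.algEquiv qb.primeCompl T (Localization.AtPrime qb)).toRingEquiv⟩
  rw [Ideal.map_span, Set.image_singleton]

theorem isSMulRegular_algebraMap {R : Type u} [CommRing R] (t : R) (htreg : IsSMulRegular R t) (q : Ideal R)
    [q.IsPrime] : IsSMulRegular (Localization.AtPrime q) (algebraMap R (Localization.AtPrime q) t) := by
  rw [isSMulRegular_iff_right_eq_zero_of_smul]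
  intro x hx
  obtain ⟨a, s, rfl⟩ := IsLocalization.exists_mk'_eq q.primeCompl x
  rw [smul_eq_mul, ← IsLocalization.mk'_one (M := q.primeCompl) (Localization.AtPrime q) t,
    ← IsLocalization.mk'_mul, IsLocalization.mk'_eq_zero_iff] at hx
  obtain ⟨m, hm⟩ := hx
  rw [IsLocalization.mk'_eq_zero_iff]
  refine ⟨m, htreg (?_ : t • ((m : R) * a) = t • 0)⟩
  rw [smul_zero, smul_eq_mul, ← mul_assoc, mul_comm t, mul_assoc]
  exact hm

/-- Gorenstein at a prime containing a regular element is decided modulo it. -/
theorem isGorenstein_localization_iff_quotient {R : Type u} [CommRing R] [IsNoetherianRing R] (t : R)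
    (htreg : IsSMulRegular R t) (q : Ideal R) [q.IsPrime] (ht : t ∈ q) :
    ∃ (qb : Ideal (R ⧸ Ideal.span {t})) (_ : qb.IsPrime), qb.comap (Ideal.Quotient.mk _) = q ∧
      (LocCoh.IsGorensteinLocalRing (Localization.AtPrime q) ↔
        LocCoh.IsGorensteinLocalRing (Localization.AtPrime qb)) := by
  obtain ⟨qb, hqb, hcomap, ⟨e⟩⟩ := nonempty_quotient_localization_equiv t q ht
  refine ⟨qb, hqb, hcomap, ?_⟩
  have hm : algebraMap R (Localization.AtPrime q) t ∈ IsLocalRing.maximalIdeal (Localization.AtPrime q) :=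
    (IsLocalization.AtPrime.to_map_mem_maximal_iff (Localization.AtPrime q) q t).2 ht
  rw [GorLib.isGorensteinLocalRing_quotient_iff hm (isSMulRegular_algebraMap t htreg q)]
  exact ⟨fun h => SegreOne.isGorensteinLocalRing_of_ringEquiv e,
    fun h => SegreOne.isGorensteinLocalRing_of_ringEquiv e.symm⟩

/-- At a maximal ideal with local quotient, the localisation modulo `t` is the quotient. -/
theorem nonempty_localization_quotient_equiv {R : Type u} [CommRing R] (t : R) (q : Ideal R) [q.IsMaximal]
    (ht : t ∈ q) [IsLocalRing (R ⧸ Ideal.span {t})] :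
    Nonempty ((Localization.AtPrime q ⧸ Ideal.span {algebraMap R (Localization.AtPrime q) t}) ≃+*
      (R ⧸ Ideal.span {t})) := by
  obtain ⟨qb, hqb, hcomap, ⟨e⟩⟩ := nonempty_quotient_localization_equiv t q ht
  have h1 : (qb.comap (Ideal.Quotient.mk (Ideal.span {t}))).IsMaximal := hcomap ▸ inferInstance
  have h2 := Ideal.map_comap_of_surjective _ (Ideal.Quotient.mk_surjective (I := Ideal.span {t})) qb
  have hqmax : qb.IsMaximal := by
    rcases Ideal.map_eq_top_or_isMaximal_of_surjective _
      (Ideal.Quotient.mk_surjective (I := Ideal.span {t})) h1 with h3 | h3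
    · exact absurd (h2.symm.trans h3) hqb.ne_top
    · exact h2 ▸ h3
  exact ⟨e.trans (IsLocalization.atUnits (R ⧸ Ideal.span {t}) qb.primeCompl (S := Localization.AtPrime qb)
    (fun x hx => IsLocalRing.notMem_maximalIdeal.1
      ((IsLocalRing.eq_maximalIdeal hqmax) ▸ Ideal.mem_primeCompl_iff.1 hx))).toRingEquiv.symm⟩

/-- At a maximal ideal with local quotient, Gorenstein is decided by the quotient. -/
theorem isGorenstein_localization_iff_quotient_of_isLocalRing {R : Type u} [CommRing R] [IsNoetherianRing R]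
    (t : R) (htreg : IsSMulRegular R t) (q : Ideal R) [q.IsMaximal] (ht : t ∈ q)
    [IsLocalRing (R ⧸ Ideal.span {t})] :
    LocCoh.IsGorensteinLocalRing (Localization.AtPrime q) ↔ LocCoh.IsGorensteinLocalRing (R ⧸ Ideal.span {t}) := by
  obtain ⟨e⟩ := nonempty_localization_quotient_equiv t q ht
  rw [GorLib.isGorensteinLocalRing_quotient_iff
    ((IsLocalization.AtPrime.to_map_mem_maximal_iff (Localization.AtPrime q) q t).2 ht)
    (isSMulRegular_algebraMap t htreg q)]
  exact ⟨fun h => SegreOne.isGorensteinLocalRing_of_ringEquiv e,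
    fun h => SegreOne.isGorensteinLocalRing_of_ringEquiv e.symm⟩

/-- Socle elements of `R/(t)` generate each other when `R` is Gorenstein at the point. -/
theorem exists_mul_eq_of_mem_socle {R : Type u} [CommRing R] (t : R) (htreg : IsSMulRegular R t) (q : Ideal R)
    [q.IsMaximal] (ht : t ∈ q) [IsLocalRing (R ⧸ Ideal.span {t})] [IsArtinianRing (R ⧸ Ideal.span {t})]
    [LocCoh.IsGorensteinLocalRing (Localization.AtPrime q)] {u v : R ⧸ Ideal.span {t}} (hu : u ≠ 0)
    (hus : ∀ x ∈ IsLocalRing.maximalIdeal (R ⧸ Ideal.span {t}), x * u = 0)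
    (hvs : ∀ x ∈ IsLocalRing.maximalIdeal (R ⧸ Ideal.span {t}), x * v = 0) : ∃ b, b * u = v := by
  obtain ⟨e⟩ := nonempty_localization_quotient_equiv t q ht
  let a := algebraMap R (Localization.AtPrime q) t
  have ha : a ∈ nonZeroDivisors (Localization.AtPrime q) :=
    mem_nonZeroDivisors_iff_right.2 fun x hx => isSMulRegular_algebraMap t htreg q
      (show algebraMap R (Localization.AtPrime q) t • x = algebraMap R (Localization.AtPrime q) t • 0 by
        rw [smul_zero, smul_eq_mul, mul_comm]; exact hx)
  have hlen : IsFiniteLength (Localization.AtPrime q) (Localization.AtPrime q ⧸ Ideal.span {a}) := by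
    have : IsArtinianRing (Localization.AtPrime q ⧸ Ideal.span {a}) :=
      Function.Surjective.isArtinianRing (f := e.symm.toRingHom) e.symm.surjective
    rw [isFiniteLength_iff_isNoetherian_isArtinian]
    exact ⟨inferInstance, isArtinian_of_surjective_algebraMap (R := Localization.AtPrime q ⧸ Ideal.span {a})
      (M := Localization.AtPrime q ⧸ Ideal.span {a}) (S := Localization.AtPrime q) Ideal.Quotient.mk_surjective⟩
  have key : ∀ w : R ⧸ Ideal.span {t}, (∀ x ∈ IsLocalRing.maximalIdeal (R ⧸ Ideal.span {t}), x * w = 0) →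
      ∀ x ∈ IsLocalRing.maximalIdeal (Localization.AtPrime q), x • e.symm w = 0 := by
    intro w hw x hx
    have h1 : e (Ideal.Quotient.mk (Ideal.span {a}) x) ∈ IsLocalRing.maximalIdeal (R ⧸ Ideal.span {t}) := by
      rw [IsLocalRing.mem_maximalIdeal, mem_nonunits_iff, isUnit_map_iff]
      intro hun
      obtain ⟨y, hy⟩ := hun.exists_right_inv
      obtain ⟨y, rfl⟩ := Ideal.Quotient.mk_surjective y
      rw [← map_mul, ← map_one (Ideal.Quotient.mk (Ideal.span {a})), Ideal.Quotient.eq] at hy
      refine (IsLocalRing.maximalIdeal.isMaximal (Localization.AtPrime q)).ne_top ((Ideal.eq_top_iff_one _).2 ?_)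
      have ham : Ideal.span {a} ≤ IsLocalRing.maximalIdeal (Localization.AtPrime q) := by
        rw [Ideal.span_singleton_le_iff_mem]
        exact (IsLocalization.AtPrime.to_map_mem_maximal_iff (Localization.AtPrime q) q t).2 ht
      have := sub_mem (Ideal.mul_mem_right y _ hx) (ham hy)
      rwa [sub_sub_cancel] at this
    apply e.injective
    rw [map_zero]
    obtain ⟨z, hz⟩ := Ideal.Quotient.mk_surjective (e.symm w)
    rw [← hz]
    change e (Ideal.Quotient.mk _ (x * z)) = 0
    rw [map_mul, map_mul, hz, RingEquiv.apply_symm_apply]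
    exact hw _ h1
  obtain ⟨b, hb⟩ := SegreOne.exists_smul_eq_of_mem_socle ha hlen
    (u := e.symm u) (v := e.symm v) (by simpa using hu) (key u hus) (key v hvs)
  refine ⟨e (Ideal.Quotient.mk _ b), e.symm.injective ?_⟩
  rw [map_mul, e.symm_apply_apply, ← hb]
  obtain ⟨z, hz⟩ := Ideal.Quotient.mk_surjective (e.symm u)
  rw [← hz, ← map_mul]
  rfl

end Groth.Agent.SemiGor
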