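import Groth.Agent.SemiGor.Semigroup
import Groth.Agent.FunFld.SectRing
import Mathlib.RingTheory.DedekindDomain.Basic
import Mathlib.RingTheory.IntegralClosure.IntegrallyClosed
import Mathlib.RingTheory.Adjoin.FG
import Mathlib.RingTheory.FiniteType

/-!
# Gorenstein section rings at a point
-/

namespace Groth.Agent.SemiGor

open FunFld WithZero FunFldLib
open W4c6gradedringsgw (sectRing poleOrders IsSymmetric)
open scoped Polynomial
open Polynomial (X monomial)

universe u

variable {k K : Type u} [Field k] [Field K] [Algebra k K]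

/-- The functions regular away from `P`. -/
def affAlg (P : Place k K) : Subalgebra k K where
  carrier := {x | ∀ Q : Place k K, Q ≠ P → Q.1 x ≤ 1}
  mul_mem' {x y} hx hy Q hQ := by rw [map_mul]; exact mul_le_one' (hx Q hQ) (hy Q hQ)
  add_mem' {x y} hx hy Q hQ := (Q.1.map_add x y).trans (max_le (hx Q hQ) (hy Q hQ))
  algebraMap_mem' c Q _ := Q.2.1 c

theorem mem_affAlg_of_mem_L {P : Place k K} {n : ℕ} {a : K} (ha : a ∈ L (Finsupp.single P (n : ℤ))) :
    a ∈ affAlg P := fun Q hQ => by simpa [Finsupp.single_eq_of_ne hQ] using ha Q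

theorem exists_mem_L_of_mem_affAlg {P : Place k K} {a : K} (ha : a ∈ affAlg P) :
    ∃ n : ℕ, a ∈ L (Finsupp.single P (n : ℤ)) := by
  refine ⟨(log (P.1 a)).toNat, fun Q => ?_⟩
  rcases eq_or_ne Q P with rfl | hQ
  · rw [Finsupp.single_eq_same]
    rcases eq_or_ne (Q.1 a) 0 with h | h
    · rw [h]; exact zero_le
    · refine le_trans ?_ (exp_le_exp.2 (Int.self_le_toNat _))
      rw [exp_log h]
  · simpa [Finsupp.single_eq_of_ne hQ] using ha Q hQ

theorem L_single_mono {P : Place k K} {m n : ℕ} (h : m ≤ n) :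
    L (Finsupp.single P (m : ℤ) : Divisor k K) ≤ L (Finsupp.single P (n : ℤ)) :=
  L_mono (Finsupp.single_mono (by exact_mod_cast h))

variable [IsAlgClosed k] (hK : IsFunctionField k K) (P : Place k K)

include hK

theorem mem_poleOrders_of_le {n : ℕ} (hn : 2 * genus k K ≤ n) : n ∈ poleOrders P :=
  (mem_poleOrders_iff hK P n).2 (isPoleOrder_of_two_genus_le hK (deg_eq_one hK P) hn)

/-- Above `N = 4g + 1` every function is a multiple of a fixed one up to lower pole order. -/
theorem exists_step : ∃ x ∈ L (Finsupp.single P ((2 * genus k K + 1 : ℕ) : ℤ) : Divisor k K),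
    ∀ m : ℕ, 4 * genus k K + 1 ≤ m → ∀ a ∈ L (Finsupp.single P ((m + 1 : ℕ) : ℤ) : Divisor k K),
      ∃ z ∈ L (Finsupp.single P ((m - 2 * genus k K : ℕ) : ℤ) : Divisor k K),
        a - x * z ∈ L (Finsupp.single P (m : ℤ)) := by
  obtain ⟨x, hx, hx1⟩ := exists_lead_eq_one hK P
    (mem_poleOrders_of_le hK P (Nat.le_succ (2 * genus k K)))
  refine ⟨x, hx, fun m hm a ha => ?_⟩
  obtain ⟨z, hz, hz1⟩ := exists_lead_eq_one hK P
    (mem_poleOrders_of_le hK P (show 2 * genus k K ≤ m - 2 * genus k K by omega))
  have hadd : 2 * genus k K + 1 + (m - 2 * genus k K) = m + 1 := by omega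
  set c := lead P (m + 1) a
  refine ⟨c • z, Submodule.smul_mem _ _ hz, ?_⟩
  have hprod : x * z ∈ L (Finsupp.single P ((m + 1 : ℕ) : ℤ) : Divisor k K) := by
    have h := W4c6gradedringsgw.mul_mem_L hx hz
    rwa [← Finsupp.single_add, ← Nat.cast_add, hadd] at h
  have h0 : lead P (m + 1) (a - x * c • z) = 0 := by
    have h1 : lead P (m + 1) (x * z) = 1 := by rw [← hadd, lead_mul hK P hx hz, hx1, hz1, mul_one]
    rw [mul_smul_comm, sub_eq_add_neg, ← neg_smul, lead_add hK P ha (Submodule.smul_mem _ _ hprod),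
      lead_smul hK P _ hprod, h1, mul_one, add_neg_cancel]
  have hmem : a - x * c • z ∈ L (Finsupp.single P ((m + 1 : ℕ) : ℤ) : Divisor k K) := by
    rw [mul_smul_comm]
    exact sub_mem ha (Submodule.smul_mem _ _ hprod)
  simpa using (lead_eq_zero_iff hK P hmem).1 h0

theorem finiteType_sectRing : Algebra.FiniteType k ↥(sectRing (Finsupp.single P 1 : Divisor k K)) := by
  obtain ⟨x, hx, hstep⟩ := exists_step hK P
  let N := 4 * genus k K + 1
  let V : ∀ j : ℕ, L (Finsupp.single P (j : ℤ) : Divisor k K) →ₗ[k] ↥(sectRing (Finsupp.single P 1 : Divisor k K)) :=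
    fun j => LinearMap.codRestrict (Subalgebra.toSubmodule (sectRing (Finsupp.single P 1 : Divisor k K)))
      ((monomial j : K →ₗ[K] K[X]).restrictScalars k ∘ₗ (L (Finsupp.single P (j : ℤ) : Divisor k K)).subtype)
      (fun a => monomial_mem P a.2)
  have hV : ∀ (j : ℕ) (a : L (Finsupp.single P (j : ℤ) : Divisor k K)),
      (V j a : K[X]) = monomial j (a : K) := fun j a => rfl
  let W : Submodule k ↥(sectRing (Finsupp.single P 1 : Divisor k K)) :=
    Submodule.span k {Tel P} ⊔ ⨆ j : Fin (N + 1), LinearMap.range (V j)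
  have : ∀ j : ℕ, FiniteDimensional k (L (Finsupp.single P (j : ℤ) : Divisor k K)) := fun j =>
    finiteDimensional_L hK _
  have hfg : W.FG := (Submodule.fg_span_singleton _).sup (Submodule.fg_iSup _ fun j =>
    Module.Finite.iff_fg.1 inferInstance)
  obtain ⟨t, ht⟩ := hfg
  refine ⟨⟨t, eq_top_iff.2 fun p _ => ?_⟩⟩
  have hW : ∀ w ∈ W, w ∈ Algebra.adjoin k (t : Set ↥(sectRing (Finsupp.single P 1 : Divisor k K))) :=
    fun w hw => Algebra.span_le_adjoin k (t : Set ↥(sectRing (Finsupp.single P 1 : Divisor k K))) (ht.symm ▸ hw)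
  have hT : Tel P ∈ Algebra.adjoin k (t : Set ↥(sectRing (Finsupp.single P 1 : Divisor k K))) :=
    hW _ (Submodule.mem_sup_left (Submodule.mem_span_singleton_self _))
  have key : ∀ j : ℕ, ∀ a : L (Finsupp.single P (j : ℤ) : Divisor k K),
      V j a ∈ Algebra.adjoin k (t : Set ↥(sectRing (Finsupp.single P 1 : Divisor k K))) := by
    intro j
    induction j using Nat.strong_induction_on with
    | _ j ih =>
      intro a
      rcases Nat.lt_or_ge N j with hj | hj
      · obtain ⟨m, rfl⟩ : ∃ m, j = m + 1 := ⟨j - 1, by omega⟩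
        obtain ⟨z, hz, hrest⟩ := hstep m (by omega) a a.2
        have heq : V (m + 1) a = V (2 * genus k K + 1) ⟨x, hx⟩ * V (m - 2 * genus k K) ⟨z, hz⟩ +
            Tel P * V m ⟨_, hrest⟩ := by
          refine Subtype.ext ?_
          rw [Subalgebra.coe_add, Subalgebra.coe_mul, Subalgebra.coe_mul, hV, hV, hV, hV,
            show ((Tel P : ↥(sectRing (Finsupp.single P 1 : Divisor k K))) : K[X]) = X from rfl,
            Polynomial.monomial_mul_monomial, Polynomial.X_mul_monomial,
            show 2 * genus k K + 1 + (m - 2 * genus k K) = m + 1 by omega, ← map_add, add_sub_cancel]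
        rw [heq]
        exact add_mem (mul_mem (ih _ (by omega) _) (ih _ (by omega) _)) (mul_mem hT (ih _ (by omega) _))
      · exact hW _ (Submodule.mem_sup_right (le_iSup (fun j : Fin (N + 1) => LinearMap.range (V j))
          ⟨j, by omega⟩ ⟨a, rfl⟩))
  have hp : p = ∑ i ∈ (p : K[X]).support, V i ⟨(p : K[X]).coeff i, coeff_mem P p i⟩ := by
    refine Subtype.ext ?_
    rw [AddSubmonoidClass.coe_finsetSum]
    exact (p : K[X]).as_sum_support
  rw [hp]
  exact sum_mem fun i _ => key i _

omit [IsAlgClosed k] hK in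
theorem isIntegrallyClosed_affAlg : IsIntegrallyClosed (affAlg P) := by
  let j : FractionRing (affAlg P) →+* K :=
    IsFractionRing.lift (g := (affAlg P).val.toRingHom) Subtype.val_injective
  have hj : ∀ b, j (algebraMap (affAlg P) (FractionRing (affAlg P)) b) = (b : K) := fun b =>
    IsFractionRing.lift_algebraMap _ b
  refine (isIntegrallyClosed_iff (FractionRing (affAlg P))).2 fun {x} hx => ?_
  have hmem : j x ∈ affAlg P := by
    intro Q hQ
    obtain ⟨p, hp, hp0⟩ := hx
    let q : Q.O[X] := p.map ((affAlg P).val.toRingHom.codRestrict Q.O fun a => a.2 Q hQ)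
    have hint : IsIntegral Q.O (j x) := by
      refine ⟨q, hp.map _, ?_⟩
      have := congrArg j hp0
      rw [Polynomial.hom_eval₂, map_zero] at this
      rw [Polynomial.eval₂_map]
      refine Eq.trans ?_ this
      congr 1
      ext b
      exact (hj b).symm
    obtain ⟨y, hy⟩ := (IsIntegrallyClosed.isIntegral_iff (R := Q.O) (K := K)).1 hint
    exact hy ▸ (Q.1.mem_valuationSubring_iff _).1 y.2
  exact ⟨⟨_, hmem⟩, j.injective ((hj _).trans rfl)⟩

theorem isDedekindDomain_affAlg : IsDedekindDomain (affAlg P) := by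
  obtain ⟨x, hx, hstep⟩ := exists_step hK P
  let N := 4 * genus k K + 1
  let φ : k[X] →ₐ[k] affAlg P := Polynomial.aeval ⟨x, mem_affAlg_of_mem_L hx⟩
  let _ : Algebra k[X] (affAlg P) := φ.toRingHom.toAlgebra
  have : IsScalarTower k k[X] (affAlg P) := IsScalarTower.of_algebraMap_eq fun c => (φ.commutes c).symm
  have : FiniteDimensional k (L (Finsupp.single P (N : ℤ) : Divisor k K)) := finiteDimensional_L hK _
  let ι : L (Finsupp.single P (N : ℤ) : Divisor k K) →ₗ[k] affAlg P :=
    LinearMap.codRestrict (Subalgebra.toSubmodule (affAlg P)) (Submodule.subtype _)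
      (fun a => mem_affAlg_of_mem_L a.2)
  obtain ⟨t, ht⟩ := Module.Finite.iff_fg.1 (inferInstance : Module.Finite k (LinearMap.range ι))
  have key : ∀ n : ℕ, ∀ a : affAlg P, (a : K) ∈ L (Finsupp.single P (n : ℤ) : Divisor k K) →
      a ∈ Submodule.span k[X] (t : Set (affAlg P)) := by
    intro n
    induction n using Nat.strong_induction_on with
    | _ n ih =>
      intro a ha
      rcases Nat.lt_or_ge N n with hn | hn
      · obtain ⟨m, rfl⟩ : ∃ m, n = m + 1 := ⟨n - 1, by omega⟩
        obtain ⟨z, hz, hrest⟩ := hstep m (by omega) a ha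
        have heq : a = (X : k[X]) • (⟨z, mem_affAlg_of_mem_L hz⟩ : affAlg P) + ⟨_, mem_affAlg_of_mem_L hrest⟩ := by
          refine Subtype.ext ?_
          rw [Algebra.smul_def, RingHom.algebraMap_toAlgebra]
          simp [φ]
        rw [heq]
        exact add_mem (Submodule.smul_mem _ _ (ih _ (by omega) _ hz)) (ih _ (by omega) _ hrest)
      · have h : a ∈ Submodule.span k (t : Set (affAlg P)) :=
          ht.symm ▸ ⟨⟨a, L_single_mono hn ha⟩, Subtype.ext rfl⟩
        exact Submodule.span_le_restrictScalars k k[X] _ h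
  have : Module.Finite k[X] (affAlg P) := Module.finite_def.2 ⟨t, eq_top_iff.2 fun a _ => by
    obtain ⟨n, hn⟩ := exists_mem_L_of_mem_affAlg a.2
    exact key n a hn⟩
  have : IsNoetherianRing (affAlg P) := IsNoetherianRing.of_finite k[X] (affAlg P)
  have : Algebra.IsIntegral k[X] (affAlg P) := Algebra.IsIntegral.of_finite _ _
  have : Ring.DimensionLEOne (affAlg P) := ⟨fun {p} hp hpp =>
    Ideal.isMaximal_of_isIntegral_of_isMaximal_comap (R := k[X]) p
      (IsPrime.to_maximal_ideal fun h => hp (Ideal.eq_bot_of_comap_eq_bot (R := k[X]) h))⟩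
  have := isIntegrallyClosed_affAlg P
  exact {}

/-- The inclusion of the section ring into `A[T]`. -/
theorem exists_embedding :
    ∃ ι : ↥(sectRing (Finsupp.single P 1 : Divisor k K)) →+* (affAlg P)[X],
      Function.Injective ι ∧ ι (Tel P) = X ∧ ∀ b, ∃ n : ℕ, ι (Tel P) ^ n * b ∈ ι.range := by
  let m : (affAlg P)[X] →+* K[X] := Polynomial.mapRingHom (affAlg P).val.toRingHom
  have hm : Function.Injective m := Polynomial.map_injective _ Subtype.val_injective
  have hle : ∀ p : ↥(sectRing (Finsupp.single P 1 : Divisor k K)), (p : K[X]) ∈ m.range := by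
    intro p
    rw [RingHom.mem_range]
    exact (Polynomial.mem_map_range _).2 fun n => ⟨⟨_, mem_affAlg_of_mem_L (coeff_mem P p n)⟩, rfl⟩
  let ι : ↥(sectRing (Finsupp.single P 1 : Divisor k K)) →+* (affAlg P)[X] :=
    (RingEquiv.ofBijective m.rangeRestrict
      ⟨fun a b h => hm (congrArg Subtype.val h), m.rangeRestrict_surjective⟩).symm.toRingHom.comp
      ((sectRing (Finsupp.single P 1 : Divisor k K)).val.toRingHom.codRestrict m.range hle)
  have hι : ∀ p, m (ι p) = (p : K[X]) := fun p => congrArg Subtype.val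
    ((RingEquiv.ofBijective m.rangeRestrict
      ⟨fun a b h => hm (congrArg Subtype.val h), m.rangeRestrict_surjective⟩).apply_symm_apply _)
  have hT : ι (Tel P) = X := hm (by rw [hι]; simp [m, Tel])
  refine ⟨ι, fun p q h => Subtype.ext (by rw [← hι, h, hι]), hT, fun b => ?_⟩
  choose n hn using fun i => exists_mem_L_of_mem_affAlg (b.coeff i).2
  refine ⟨b.support.sup n, ⟨m (X ^ b.support.sup n * b), fun j => ?_⟩, hm ?_⟩
  · rw [mul_zsmul_single, mul_comm, map_mul, map_pow]
    simp only [m, Polynomial.coe_mapRingHom, Polynomial.map_X, Polynomial.coeff_mul_X_pow', Polynomial.coeff_map]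
    split_ifs with hle
    · by_cases hi : j - b.support.sup n ∈ b.support
      · exact L_single_mono (le_trans (Finset.le_sup hi) hle) (hn _)
      · rw [Polynomial.notMem_support_iff.1 hi, map_zero]
        exact zero_mem _
    · exact zero_mem _
  · rw [hι, hT]

/-- The section ring at a point is Gorenstein iff the semigroup is symmetric. -/
theorem isGorensteinRing_sectRing_iff :
    LocCoh.IsGorensteinRing ↥(sectRing (Finsupp.single P 1 : Divisor k K)) ↔ IsSymmetric (poleOrders P) := by
  set H := AddSubmonoid.closure (poleOrders P)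
  have hH : (H : Set ℕ) = poleOrders P := closure_poleOrders hK P
  have hc : ∀ n, 2 * genus k K ≤ n → n ∈ H := fun n hn =>
    AddSubmonoid.subset_closure (mem_poleOrders_of_le hK P hn)
  have hrange : (leadHom hK P).range = semiAlg k H := by
    refine SetLike.coe_injective ((range_leadHom hK P).trans ?_)
    ext q
    refine forall_congr' fun n => ?_
    rw [← hH]
    exact not_imp_comm
  let e : (↥(sectRing (Finsupp.single P 1 : Divisor k K)) ⧸ Ideal.span {Tel P}) ≃+* semiAlg k H :=
    ((Ideal.quotientEquivAlgOfEq k (ker_leadHom hK P).symm).trans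
      ((Ideal.quotientKerEquivRange (leadHom hK P)).trans (Subalgebra.equivOfEq _ _ hrange))).toRingEquiv
  have := finiteType_sectRing hK P
  have : IsNoetherianRing ↥(sectRing (Finsupp.single P 1 : Divisor k K)) :=
    Algebra.FiniteType.isNoetherianRing k _
  have : IsNoetherianRing (semiAlg k H) := isNoetherianRing_of_ringEquiv _ e
  have hreg : IsSMulRegular ↥(sectRing (Finsupp.single P 1 : Divisor k K)) (Tel P) := fun a b h =>
    Subtype.ext (mul_left_cancel₀ Polynomial.X_ne_zero (congrArg Subtype.val h))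
  constructor
  · intro hG
    have : LocCoh.IsGorensteinRing (↥(sectRing (Finsupp.single P 1 : Divisor k K)) ⧸ Ideal.span {Tel P}) := by
      refine { isGorensteinLocalRing_localization := fun qb _ => ?_ }
      obtain ⟨qb', hqb', hcomap, hiff⟩ := isGorenstein_localization_iff_quotient (Tel P) hreg
        (qb.comap (Ideal.Quotient.mk (Ideal.span {Tel P}))) (by
          rw [Ideal.mem_comap, Ideal.Quotient.eq_zero_iff_mem.2 (Ideal.mem_span_singleton_self _)]
          exact qb.zero_mem)
      obtain rfl := Ideal.comap_injective_of_surjective _ Ideal.Quotient.mk_surjective hcomap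
      exact hiff.1 (LocCoh.IsGorensteinRing.isGorensteinLocalRing_localization _)
    have := SegreOne.isGorensteinRing_of_ringEquiv
      (A := ↥(sectRing (Finsupp.single P 1 : Divisor k K)) ⧸ Ideal.span {Tel P}) (B := semiAlg k H) e
    exact hH ▸ isSymmetric_of_gorenstein k hc fun p _ =>
      LocCoh.IsGorensteinRing.isGorensteinLocalRing_localization p
  · intro hsym
    have : LocCoh.IsGorensteinRing (semiAlg k H) :=
      { isGorensteinLocalRing_localization := fun p _ => gorenstein_of_isSymmetric k hc (hH.symm ▸ hsym) p }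
    have := SegreOne.isGorensteinRing_of_ringEquiv
      (B := ↥(sectRing (Finsupp.single P 1 : Divisor k K)) ⧸ Ideal.span {Tel P}) (A := semiAlg k H) e.symm
    refine { isGorensteinLocalRing_localization := fun q _ => ?_ }
    by_cases hT : Tel P ∈ q
    · obtain ⟨qb, hqb, -, hiff⟩ := isGorenstein_localization_iff_quotient (Tel P) hreg q hT
      exact hiff.2 (LocCoh.IsGorensteinRing.isGorensteinLocalRing_localization qb)
    · have := isDedekindDomain_affAlg hK P
      obtain ⟨ι, hι, -, hconv⟩ := exists_embedding hK P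
      exact isGorenstein_localization_of_saturate ι hι (Tel P) hconv q hT

end Groth.Agent.SemiGor
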