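import Groth.Agent.SemiGor.General
import Groth.Prelude.Def_W4c6gradedringsgwSect
import Mathlib.RingTheory.PrincipalIdealDomain
import Mathlib.Algebra.Polynomial.Degree.Lemmas

/-!
# Gorenstein numerical semigroup rings

`k[H]` is Gorenstein iff the numerical semigroup `H` is symmetric.
-/

namespace Groth.Agent.SemiGor

open Polynomial
open W4c6gradedringsgw (IsSymmetric)

universe u

variable (k : Type u) [Field k] (H : AddSubmonoid ℕ)

/-- The semigroup algebra inside the polynomial ring. -/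
def semiAlg : Subalgebra k k[X] where
  carrier := {q | ∀ n ∉ H, q.coeff n = 0}
  mul_mem' {p q} hp hq n hn := by
    rw [coeff_mul]
    refine Finset.sum_eq_zero fun x hx => ?_
    by_cases h1 : x.1 ∈ H
    · by_cases h2 : x.2 ∈ H
      · exact absurd (Finset.mem_antidiagonal.1 hx ▸ H.add_mem h1 h2) hn
      · rw [hq _ h2, mul_zero]
    · rw [hp _ h1, zero_mul]
  add_mem' {p q} hp hq n hn := by rw [coeff_add, hp n hn, hq n hn, add_zero]
  algebraMap_mem' c n hn := by
    rw [Polynomial.algebraMap_apply, coeff_C, if_neg]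
    rintro rfl
    exact hn H.zero_mem

variable {k H}

theorem mem_semiAlg {q : k[X]} : q ∈ semiAlg k H ↔ ∀ n ∉ H, q.coeff n = 0 := Iff.rfl

variable (k) in
/-- A monomial in the semigroup algebra. -/
noncomputable def mono {n : ℕ} (hn : n ∈ H) : semiAlg k H :=
  ⟨X ^ n, fun m hm => by rw [coeff_X_pow, if_neg]; rintro rfl; exact hm hn⟩

@[simp] theorem mono_val {n : ℕ} (hn : n ∈ H) : (mono k hn : k[X]) = X ^ n := rfl

variable (k H) in
/-- The vertex. -/
noncomputable def vertex : Ideal (semiAlg k H) :=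
  RingHom.ker (constantCoeff.comp (semiAlg k H).val.toRingHom)

theorem mem_vertex {f : semiAlg k H} : f ∈ vertex k H ↔ (f : k[X]).coeff 0 = 0 := Iff.rfl

instance : (vertex k H).IsMaximal :=
  RingHom.ker_isMaximal_of_surjective _ fun c => ⟨algebraMap k _ c, by simp [Polynomial.algebraMap_apply]⟩

variable {h : ℕ} (hh : h ∈ H) (h0 : 0 < h)

variable (H h) in
/-- The Apéry set of `h`. -/
def IsApery (a : ℕ) : Prop := a ∈ H ∧ ∀ b ∈ H, b + h ≠ a

include h0 in
theorem vertex_le {p : Ideal (semiAlg k H)} [hp : p.IsPrime] (ht : mono k hh ∈ p) : vertex k H ≤ p := by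
  intro f hf
  classical
  let g : ℕ → semiAlg k H := fun n => if hn : n ∈ H then (f : k[X]).coeff n • mono k hn else 0
  have hfg : f = ∑ n ∈ (f : k[X]).support, g n := by
    refine Subtype.ext ?_
    rw [AddSubmonoidClass.coe_finset_sum]
    conv_lhs => rw [(f : k[X]).as_sum_support]
    refine Finset.sum_congr rfl fun n hn => ?_
    have hnH : n ∈ H := by_contra fun h => Polynomial.mem_support_iff.1 hn (f.2 n h)
    simp only [g, dif_pos hnH, SetLike.val_smul, mono_val, smul_eq_C_mul, C_mul_X_pow_eq_monomial]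
  rw [hfg]
  refine sum_mem fun n hn => ?_
  have hnH : n ∈ H := by_contra fun h => Polynomial.mem_support_iff.1 hn (f.2 n h)
  simp only [g, dif_pos hnH]
  rw [Algebra.smul_def]
  refine p.mul_mem_left _ (hp.mem_of_pow_mem h ?_)
  have hn0 : n ≠ 0 := fun h => Polynomial.mem_support_iff.1 hn (h ▸ mem_vertex.1 hf)
  rw [show mono k hnH ^ h = mono k hh ^ n from
    Subtype.ext (by simp only [SubmonoidClass.coe_pow, mono_val, ← pow_mul, mul_comm])]
  exact p.pow_mem_of_mem ht n (Nat.pos_of_ne_zero hn0)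

theorem mem_span_mono_iff {f : semiAlg k H} :
    f ∈ Ideal.span {mono k hh} ↔ ∀ a, IsApery H h a → (f : k[X]).coeff a = 0 := by
  rw [Ideal.mem_span_singleton']
  constructor
  · rintro ⟨g, rfl⟩ a ha
    rw [Subalgebra.coe_mul, mono_val, coeff_mul_X_pow']
    split_ifs with hle
    · by_cases hg : a - h ∈ H
      · exact absurd (by omega) (ha.2 _ hg)
      · exact g.2 _ hg
    · rfl
  · intro hf
    have hlow : ∀ d < h, (f : k[X]).coeff d = 0 := fun d hd => by
      by_cases hdH : d ∈ H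
      · exact hf d ⟨hdH, fun b _ => by omega⟩
      · exact f.2 d hdH
    obtain ⟨q, hq⟩ := X_pow_dvd_iff.2 hlow
    refine ⟨⟨q, fun n hn => ?_⟩, Subtype.ext ?_⟩
    · rw [show q.coeff n = (f : k[X]).coeff (n + h) by rw [hq, mul_comm, coeff_mul_X_pow]]
      by_cases hnh : n + h ∈ H
      · exact hf _ ⟨hnh, fun b hb hbe => hn (by rwa [show n = b by omega])⟩
      · exact f.2 _ hnh
    · rw [Subalgebra.coe_mul, mono_val]
      exact (mul_comm _ _).trans hq.symm

variable {c : ℕ} (hc : ∀ n, c ≤ n → n ∈ H)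

theorem apery_lt {a : ℕ} (hc : ∀ n, c ≤ n → n ∈ H) (ha : IsApery H h a) : a < c + h := by
  by_contra hle
  exact ha.2 (a - h) (hc _ (by omega)) (by omega)

/-- The Artinian quotient. -/
abbrev AQuot : Type u := semiAlg k H ⧸ Ideal.span {mono k hh}

include hc in
theorem finite_quot : FiniteDimensional k (AQuot (k := k) hh) := by
  classical
  let v : Fin (c + h) → AQuot (k := k) hh :=
    fun i => if hi : (i : ℕ) ∈ H then Ideal.Quotient.mk _ (mono k hi) else 0
  refine Module.finite_def.2 ⟨Finset.univ.image v, eq_top_iff.2 fun q _ => ?_⟩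
  obtain ⟨f, rfl⟩ := Ideal.Quotient.mk_surjective q
  have : Ideal.Quotient.mk _ f = ∑ i : Fin (c + h), (f : k[X]).coeff i • v i := by
    let g : Fin (c + h) → semiAlg k H :=
      fun i => if hi : (i : ℕ) ∈ H then mono k hi else 0
    have hv : ∀ i, v i = Ideal.Quotient.mkₐ k _ (g i) := fun i => by
      simp only [v, g]
      split_ifs <;> simp
    simp only [hv, ← map_smul, ← map_sum]
    rw [← Ideal.Quotient.mkₐ_eq_mk k, Ideal.Quotient.mkₐ_eq_mk, Ideal.Quotient.eq, mem_span_mono_iff]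
    intro a ha
    have hlt := apery_lt hc ha
    rw [AddSubgroupClass.coe_sub, coeff_sub, AddSubmonoidClass.coe_finset_sum, finsetSum_coeff,
      Finset.sum_eq_single (⟨a, hlt⟩ : Fin (c + h))]
    · simp [g, ha.1]
    · intro i _ hi
      have hia : a ≠ i := fun h => hi (Fin.ext h.symm)
      by_cases hiH : (i : ℕ) ∈ H <;> simp [g, hiH, coeff_X_pow, hia]
    · simp
  rw [this]
  refine sum_mem fun i _ => Submodule.smul_mem _ _ (Submodule.subset_span ?_)
  simp

include h0 in
theorem isLocalRing_quot : IsLocalRing (AQuot (k := k) hh) := by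
  have hle : Ideal.span {mono k hh} ≤ vertex k H := by
    rw [Ideal.span_singleton_le_iff_mem, mem_vertex, mono_val, coeff_X_pow, if_neg h0.ne]
  have hmap : ((vertex k H).map (Ideal.Quotient.mk (Ideal.span {mono k hh}))).IsMaximal := by
    rcases Ideal.map_eq_top_or_isMaximal_of_surjective _
      (Ideal.Quotient.mk_surjective (I := Ideal.span {mono k hh}))
      (inferInstance : (vertex k H).IsMaximal) with h1 | h1
    · have h2 := congrArg (Ideal.comap (Ideal.Quotient.mk (Ideal.span {mono k hh}))) h1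
      rw [Ideal.comap_map_of_surjective _ Ideal.Quotient.mk_surjective, ← RingHom.ker_eq_comap_bot, Ideal.mk_ker,
        sup_eq_left.2 hle, Ideal.comap_top] at h2
      exact absurd h2 (Ideal.IsMaximal.ne_top inferInstance)
    · exact h1
  refine IsLocalRing.of_unique_max_ideal ⟨(vertex k H).map (Ideal.Quotient.mk (Ideal.span {mono k hh})), hmap, fun m hm => ?_⟩
  have := hm.isPrime
  have h2 : mono k hh ∈ m.comap (Ideal.Quotient.mk (Ideal.span {mono k hh})) := by
    rw [Ideal.mem_comap, Ideal.Quotient.eq_zero_iff_mem.2 (Ideal.mem_span_singleton_self _)]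
    exact m.zero_mem
  exact (hmap.eq_of_le hm.ne_top (Ideal.map_le_iff_le_comap.2 (vertex_le hh h0 h2))).symm

theorem mk_mono_ne_zero {a : ℕ} (ha : IsApery H h a) :
    (Ideal.Quotient.mk (Ideal.span {mono k hh}) (mono k ha.1) : AQuot (k := k) hh) ≠ 0 := fun h0 => by
  have := (mem_span_mono_iff hh).1 (Ideal.Quotient.eq_zero_iff_mem.1 h0) a ha
  simp at this

theorem isSMulRegular_mono : IsSMulRegular (semiAlg k H) (mono k hh) := fun a b hab =>
  Subtype.ext (mul_left_cancel₀ (pow_ne_zero h X_ne_zero) (congrArg Subtype.val hab))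

include h0 in
theorem mono_mem_vertex : mono k hh ∈ vertex k H := by
  rw [mem_vertex, mono_val, coeff_X_pow, if_neg h0.ne]

/-- A pseudo-Frobenius number: a gap `f` with `f + (H ∖ 0) ⊆ H`. -/
def IsPF (H : AddSubmonoid ℕ) (f : ℕ) : Prop := f ∉ H ∧ ∀ s ∈ H, 0 < s → f + s ∈ H

theorem exists_pf {c : ℕ} (hc : ∀ n, c ≤ n → n ∈ H) {n : ℕ} (hn : n ∉ H) :
    ∃ f, IsPF H f ∧ ∃ s ∈ H, n + s = f := by
  classical
  let T := (Finset.range c).filter fun f => f ∉ H ∧ ∃ s ∈ H, n + s = f
  have hlt : ∀ f, f ∉ H → f < c := fun f hf => by_contra fun h => hf (hc f (by omega))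
  have hT : T.Nonempty := ⟨n, by simp [T, hn, hlt n hn]⟩
  obtain ⟨hf, s, hs, hsf⟩ := (Finset.mem_filter.1 (T.max'_mem hT)).2
  refine ⟨_, ⟨hf, fun r hr hr0 => by_contra fun hgap => ?_⟩, s, hs, hsf⟩
  have : T.max' hT + r ∈ T := Finset.mem_filter.2 ⟨Finset.mem_range.2 (hlt _ hgap), hgap, s + r, H.add_mem hs hr,
    by omega⟩
  have := T.le_max' _ this
  omega

include h0 hh in
theorem pf_apery {f : ℕ} (hf : IsPF H f) : IsApery H h (f + h) :=
  ⟨hf.2 h hh h0, fun b hb hbe => hf.1 (by rwa [show f = b by omega])⟩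

include h0 in
theorem socle_of_pf [IsLocalRing (AQuot (k := k) hh)] {f : ℕ} (hf : IsPF H f) :
    ∀ x ∈ IsLocalRing.maximalIdeal (AQuot (k := k) hh),
      x * Ideal.Quotient.mk _ (mono k (pf_apery hh h0 hf).1) = 0 := by
  intro x hx
  obtain ⟨g, rfl⟩ := Ideal.Quotient.mk_surjective x
  have hg : g ∈ vertex k H := by
    have h1 : (IsLocalRing.maximalIdeal (AQuot (k := k) hh)).comap (Ideal.Quotient.mk (Ideal.span {mono k hh})) =
        vertex k H := by
      refine ((inferInstance : (vertex k H).IsMaximal).eq_of_le ?_ (vertex_le hh h0 ?_)).symm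
      · exact Ideal.comap_ne_top _ (IsLocalRing.maximalIdeal.isMaximal _).ne_top
      · rw [Ideal.mem_comap, Ideal.Quotient.eq_zero_iff_mem.2 (Ideal.mem_span_singleton_self _)]
        exact zero_mem _
    rw [← h1]
    exact hx
  rw [← map_mul, Ideal.Quotient.eq_zero_iff_mem, mem_span_mono_iff]
  intro e he
  rw [Subalgebra.coe_mul, mono_val, coeff_mul_X_pow']
  split_ifs with hle
  · by_cases hs : e - (f + h) ∈ H
    · rcases Nat.eq_zero_or_pos (e - (f + h)) with h1 | h1
      · rw [h1]; exact mem_vertex.1 hg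
      · exact absurd (by omega) (he.2 _ (hf.2 _ hs h1))
    · exact g.2 _ hs
  · rfl

variable (k) in
/-- Gorenstein at the vertex forces symmetry. -/
theorem isSymmetric_of_gorenstein (hc : ∀ n, c ≤ n → n ∈ H) [IsNoetherianRing (semiAlg k H)]
    (hG : ∀ (p : Ideal (semiAlg k H)) [p.IsPrime], LocCoh.IsGorensteinLocalRing (Localization.AtPrime p)) :
    IsSymmetric (H : Set ℕ) := by
  by_cases hall : ∀ n, n ∈ H
  · refine ⟨-1, fun n => ⟨fun ⟨a, _, ha⟩ ⟨b, _, hb⟩ => by omega, fun h => ⟨n.toNat, hall _, ?_⟩⟩⟩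
    by_contra hn
    exact h ⟨(-1 - n).toNat, hall _, by omega⟩
  obtain ⟨n₀, hn₀⟩ := not_forall.1 hall
  obtain ⟨F, hF, -⟩ := exists_pf hc hn₀
  have hh : c + 1 ∈ H := hc _ (Nat.le_succ c)
  have h0 : 0 < c + 1 := Nat.succ_pos c
  have := isLocalRing_quot (k := k) hh h0
  have := finite_quot (k := k) hh hc
  have : IsArtinianRing (AQuot (k := k) hh) := IsArtinianRing.of_finite k _
  have := hG (vertex k H)
  have huniq : ∀ f, IsPF H f → f = F := by
    intro f hf
    obtain ⟨b, hb⟩ := exists_mul_eq_of_mem_socle (mono k hh) (isSMulRegular_mono hh) (vertex k H)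
      (mono_mem_vertex hh h0) (mk_mono_ne_zero hh (pf_apery hh h0 hF)) (socle_of_pf hh h0 hF) (socle_of_pf hh h0 hf)
    obtain ⟨g, rfl⟩ := Ideal.Quotient.mk_surjective b
    rw [← map_mul, Ideal.Quotient.eq, mem_span_mono_iff] at hb
    have h1 := hb _ (pf_apery hh h0 hf)
    rw [AddSubgroupClass.coe_sub, coeff_sub, Subalgebra.coe_mul, mono_val, mono_val, coeff_mul_X_pow',
      coeff_X_pow_self] at h1
    split_ifs at h1 with hle
    · by_cases hs : f + (c + 1) - (F + (c + 1)) ∈ H
      · rcases Nat.eq_zero_or_pos (f + (c + 1) - (F + (c + 1))) with h2 | h2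
        · omega
        · exact absurd (by omega) ((pf_apery hh h0 hf).2 _ (hF.2 _ hs h2))
      · rw [g.2 _ hs] at h1
        simp at h1
    · simp at h1
  have hgap : ∀ n : ℕ, n ∉ H → n ≤ F ∧ F - n ∈ H := fun n hn => by
    obtain ⟨f, hf, s, hs, hsf⟩ := exists_pf hc hn
    rw [huniq f hf] at hsf
    exact ⟨by omega, by rwa [show F - n = s by omega]⟩
  refine ⟨F, fun n => ⟨fun ⟨a, ha, han⟩ ⟨b, hb, hbn⟩ => hF.1 ?_, fun h => ?_⟩⟩
  · rw [show F = a + b by omega]
    exact H.add_mem ha hb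
  · by_contra hn
    refine h ?_
    rcases lt_or_ge n 0 with h1 | h1
    · refine ⟨((F : ℤ) - n).toNat, by_contra fun h2 => ?_, by omega⟩
      have := (hgap _ h2).1
      omega
    · obtain ⟨hle, hmem⟩ := hgap n.toNat fun h2 => hn ⟨_, h2, by omega⟩
      exact ⟨_, hmem, by omega⟩

variable (k) in
include h0 in
/-- Symmetry makes the Artinian quotient Gorenstein. -/
theorem gorenstein_quot_of_isSymmetric (hc : ∀ n, c ≤ n → n ∈ H) (hH : IsSymmetric (H : Set ℕ))
    [IsLocalRing (AQuot (k := k) hh)] : LocCoh.IsGorensteinLocalRing (AQuot (k := k) hh) := by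
  obtain ⟨d, hd⟩ := hH
  have := finite_quot (k := k) hh hc
  have : IsArtinianRing (AQuot (k := k) hh) := IsArtinianRing.of_finite k _
  have hdH : ¬ ∃ a ∈ (H : Set ℕ), (a : ℤ) = d := fun h1 => (hd 0).1 ⟨0, H.zero_mem, rfl⟩ (by simpa using h1)
  have hcompl : ∀ a, IsApery H h a → ∃ s ∈ H, ((a + s : ℕ) : ℤ) = d + h := by
    intro a ha
    obtain ⟨s, hs, hsd⟩ := not_not.1 ((not_congr (hd ((a : ℤ) - h))).1 fun ⟨b, hb, hbe⟩ => ha.2 b hb (by omega))
    exact ⟨s, hs, by omega⟩
  let e := (d + h).toNat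
  have he : IsApery H h e := by
    obtain ⟨s, hs, hsd⟩ := hcompl 0 ⟨H.zero_mem, fun b _ => by omega⟩
    exact ⟨by rwa [show e = s by omega], fun b hb hbe => hdH ⟨b, hb, by omega⟩⟩
  let φ : AQuot (k := k) hh →ₗ[k] k := Submodule.liftQ ((Ideal.span {mono k hh}).restrictScalars k)
    ((lcoeff k e).comp (semiAlg k H).val.toLinearMap) (fun x hx => (mem_span_mono_iff hh).1 hx e he)
  refine isGorensteinLocalRing_of_pairing φ fun q hq => ?_
  obtain ⟨g, rfl⟩ := Ideal.Quotient.mk_surjective q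
  rw [Ideal.Quotient.eq_zero_iff_mem, mem_span_mono_iff]
  intro a ha
  obtain ⟨s, hs, hsd⟩ := hcompl a ha
  have h1 : ((g * mono k hs : semiAlg k H) : k[X]).coeff e = 0 := hq (Ideal.Quotient.mk _ (mono k hs))
  rwa [Subalgebra.coe_mul, mono_val, show e = a + s by omega, coeff_mul_X_pow] at h1

variable (k) in
/-- A symmetric numerical semigroup ring is Gorenstein. -/
theorem gorenstein_of_isSymmetric (hc : ∀ n, c ≤ n → n ∈ H) (hH : IsSymmetric (H : Set ℕ))
    [IsNoetherianRing (semiAlg k H)] (p : Ideal (semiAlg k H)) [p.IsPrime] :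
    LocCoh.IsGorensteinLocalRing (Localization.AtPrime p) := by
  have hh : c + 1 ∈ H := hc _ (Nat.le_succ c)
  have h0 : 0 < c + 1 := Nat.succ_pos c
  by_cases ht : mono k hh ∈ p
  · obtain rfl : vertex k H = p :=
      (inferInstance : (vertex k H).IsMaximal).eq_of_le (Ideal.IsPrime.ne_top ‹_›) (vertex_le hh h0 ht)
    have := isLocalRing_quot (k := k) hh h0
    exact (isGorenstein_localization_iff_quotient_of_isLocalRing (mono k hh) (isSMulRegular_mono hh) _ ht).2
      (gorenstein_quot_of_isSymmetric k hh h0 hc hH)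
  · refine isGorenstein_localization_of_saturate (semiAlg k H).val.toRingHom Subtype.val_injective (mono k hh)
      (fun b => ⟨c, ⟨_, fun m hm => ?_⟩, rfl⟩) p ht
    change (((mono k hh : semiAlg k H) : k[X]) ^ c * b).coeff m = 0
    rw [mono_val, ← pow_mul, mul_comm, coeff_mul_X_pow', if_neg]
    intro hle
    exact hm (hc m (le_trans (by nlinarith) hle))

end Groth.Agent.SemiGor
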